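import Groth.Agent.GrPos9.Serre
import Groth.Prelude.Def_ReesMod
import Groth.Prelude.Def_GrSyz

/-!
Graded local cohomology of Rees modules and the Hilbert-Samuel polynomial.  Everything is proved for an
abstract graded module with coefficient maps and instantiated at the Rees module.
-/

set_option autoImplicit false
set_option linter.unusedSectionVars false
set_option linter.unusedVariables false
set_option linter.style.haveILetI false

universe u

open DirectSum Groth.Agent.GrLib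

namespace Groth.Agent.GrPos9.ReesSerre

theorem isArtinian_quotient {A : Type u} [CommRing A] [IsNoetherianRing A] [IsLocalRing A] (J : Ideal A)
    (h : IsLocalRing.maximalIdeal A ≤ J.radical) : IsArtinian A (A ⧸ J) := by
  haveI : Ring.KrullDimLE 0 (A ⧸ J) := by
    refine Ring.KrullDimLE.mk₀ fun p hp => ?_
    haveI := Ideal.comap_isPrime (Ideal.Quotient.mk J) p
    have hJ : J ≤ p.comap (Ideal.Quotient.mk J) := fun x hx => by
      rw [Ideal.mem_comap, Ideal.Quotient.eq_zero_iff_mem.2 hx]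
      exact p.zero_mem
    have hm : p.comap (Ideal.Quotient.mk J) = IsLocalRing.maximalIdeal A :=
      le_antisymm (IsLocalRing.le_maximalIdeal (Ideal.IsPrime.ne_top ‹_›))
        (h.trans ((‹(p.comap (Ideal.Quotient.mk J)).IsPrime›).radical_le_iff.2 hJ))
    have h2 : ((p.comap (Ideal.Quotient.mk J)).map (Ideal.Quotient.mk J)).IsMaximal := by
      rcases Ideal.map_eq_top_or_isMaximal_of_surjective (Ideal.Quotient.mk J) Ideal.Quotient.mk_surjective
        (hm ▸ IsLocalRing.maximalIdeal.isMaximal A : (p.comap (Ideal.Quotient.mk J)).IsMaximal) with h' | h'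
      · rw [Ideal.map_comap_of_surjective _ Ideal.Quotient.mk_surjective] at h'
        exact absurd h' hp.ne_top
      · exact h'
    rwa [Ideal.map_comap_of_surjective _ Ideal.Quotient.mk_surjective] at h2
  haveI : IsArtinianRing (A ⧸ J) := IsNoetherianRing.isArtinianRing_of_krullDimLE_zero
  exact isArtinian_of_surjective_algebraMap (R := A ⧸ J) Ideal.Quotient.mk_surjective

/-- The length of `M / I ^ k M`. -/
noncomputable def ell {A : Type u} [CommRing A] (I : Ideal A) (M : Type u) [AddCommGroup M] [Module A M] (k : ℕ) : ℚ :=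
  ((Module.length A (M ⧸ (I ^ k • (⊤ : Submodule A M)))).toNat : ℚ)

variable {A : Type u} [CommRing A] (I : Ideal A) {M : Type u} [AddCommGroup M] [Module A M]
variable {S : Type u} [CommRing S] {σ : Type u} [SetLike σ S] [AddSubgroupClass σ S] {𝒜 : ℤ → σ} [GradedRing 𝒜]
variable {N : Type u} [AddCommGroup N] [Module S N] {𝒩 : ℤ → AddSubgroup N} [Decomposition 𝒩]
  [SetLike.GradedSMul 𝒜 𝒩]

/-- Coefficient data of a Rees-like module. -/
structure Coeffs (I : Ideal A) (M : Type u) [AddCommGroup M] [Module A M] (𝒜 : ℤ → σ) [GradedRing 𝒜]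
    (𝒩 : ℤ → AddSubgroup N) : Type u where
  co : N →+ (ℕ →₀ M)
  co_inj : Function.Injective co
  co_mem : ∀ x k, co x k ∈ I ^ k • (⊤ : Submodule A M)
  co_surj : ∀ f : ℕ →₀ M, (∀ k, f k ∈ I ^ k • (⊤ : Submodule A M)) → ∃ x, co x = f
  mem_gr : ∀ (g : ℤ) (x : N), x ∈ 𝒩 g ↔ ∀ k : ℕ, (k : ℤ) ≠ g → co x k = 0
  e : S → ℕ → A
  co_smul : ∀ (s : S) (x : N) (k : ℕ), co (s • x) k = ∑ p ∈ Finset.HasAntidiagonal.antidiagonal k, e s p.1 • co x p.2
  ev : GrLC.deg0 𝒜 →+* A
  ev_surj : Function.Surjective ev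
  co_smul_zero : ∀ (r : GrLC.deg0 𝒜) (x : N) (k : ℕ), co ((r : S) • x) k = ev r • co x k

variable {I} (d : Coeffs I M 𝒜 𝒩)

namespace Coeffs

/-- The ideal of degree zero elements lying in `I`. -/
def cI : Ideal (GrLC.deg0 𝒜) := I.comap d.ev

theorem isArtinian_deg0_quot [IsNoetherianRing A] [IsLocalRing A] (hI : IsLocalRing.maximalIdeal A ≤ I.radical) :
    IsArtinian (GrLC.deg0 𝒜) (GrLC.deg0 𝒜 ⧸ d.cI) := by
  letI : Algebra (GrLC.deg0 𝒜) A := d.ev.toAlgebra
  haveI := isArtinian_quotient I hI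
  haveI : IsArtinian (GrLC.deg0 𝒜) (A ⧸ I) :=
    isArtinian_of_surjective_algebraMap (R := A) (M := A ⧸ I) d.ev_surj
  refine isArtinian_of_injective ((d.cI).liftQ ((I.mkQ.restrictScalars (GrLC.deg0 𝒜)).comp
    (Algebra.linearMap (GrLC.deg0 𝒜) A)) (fun r hr => (Submodule.Quotient.mk_eq_zero I).2 hr)) ?_
  rw [← LinearMap.ker_eq_bot, Submodule.ker_liftQ_eq_bot']
  ext r
  exact (Submodule.Quotient.mk_eq_zero I).symm

theorem coeff_proj (g : ℤ) (k : ℕ) (x : N) :
    d.co (proj 𝒩 g x) k = if (k : ℤ) = g then d.co x k else 0 := by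
  refine induction 𝒩 (motive := fun x => d.co (proj 𝒩 g x) k = if (k : ℤ) = g then d.co x k else 0)
    (by simp) ?_ ?_ x
  · intro h y hy
    by_cases hg : h = g
    · subst hg
      rw [proj_of_mem hy]
      split_ifs with hk
      · rfl
      · exact (d.mem_gr _ _).1 hy k hk
    · rw [proj_of_mem_ne hy hg, map_zero, Finsupp.zero_apply]
      split_ifs with hk
      · exact ((d.mem_gr _ _).1 hy k (hk.trans_ne (Ne.symm hg))).symm
      · rfl
  · intro y z hy hz
    rw [map_add, map_add, Finsupp.add_apply, hy, hz, map_add, Finsupp.add_apply]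
    split_ifs <;> simp

/-- The part of positive degree. -/
def W : Submodule S N where
  carrier := {x | d.co x 0 = 0}
  add_mem' {x y} hx hy := by
    change d.co (x + y) 0 = 0
    rw [map_add d.co, Finsupp.add_apply, hx, hy, add_zero]
  zero_mem' := by
    change d.co 0 0 = 0
    rw [map_zero d.co, Finsupp.zero_apply]
  smul_mem' s x hx := by
    change d.co (s • x) 0 = 0
    rw [d.co_smul, Finset.Nat.antidiagonal_zero, Finset.sum_singleton,
      show d.co x 0 = 0 from hx, smul_zero]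

theorem isHomogeneous_W : d.W.IsHomogeneous 𝒩 := by
  intro g x hx
  change d.co (proj 𝒩 g x) 0 = 0
  rw [d.coeff_proj]
  split_ifs
  · exact hx
  · rfl

theorem exists_shiftDown (x : d.W) : ∃ y, ∀ k, d.co y k = d.co (x : N) (k + 1) := by
  obtain ⟨y, hy⟩ := d.co_surj (Finsupp.comapDomain Nat.succ (d.co (x : N)) Nat.succ_injective.injOn) fun k => by
    rw [Finsupp.comapDomain_apply]
    exact Submodule.smul_mono_left (Ideal.pow_le_pow_right (Nat.le_succ k)) (d.co_mem _ _)
  exact ⟨y, fun k => by rw [hy, Finsupp.comapDomain_apply]⟩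

/-- Division by the variable. -/
noncomputable def shiftDown (x : d.W) : N := (d.exists_shiftDown x).choose

theorem coeff_shiftDown (x : d.W) (k : ℕ) : d.co (d.shiftDown x) k = d.co (x : N) (k + 1) :=
  (d.exists_shiftDown x).choose_spec k

/-- Division by the variable as a linear map of degree `-1`. -/
noncomputable def psi : d.W →ₗ[S] N where
  toFun := d.shiftDown
  map_add' x y := d.co_inj (Finsupp.ext fun k => by
    rw [coeff_shiftDown, Submodule.coe_add, map_add d.co, map_add d.co, Finsupp.add_apply, Finsupp.add_apply,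
      coeff_shiftDown, coeff_shiftDown])
  map_smul' s x := d.co_inj (Finsupp.ext fun k => by
    rw [RingHom.id_apply, coeff_shiftDown, Submodule.coe_smul, d.co_smul, d.co_smul,
      Finset.Nat.sum_antidiagonal_succ', show d.co (x : N) 0 = 0 from x.2, smul_zero, zero_add]
    exact Finset.sum_congr rfl fun p _ => by rw [coeff_shiftDown])

theorem psi_injective : Function.Injective d.psi := fun x y h => by
  refine Subtype.ext (d.co_inj (Finsupp.ext fun k => ?_))
  cases k with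
  | zero => exact (show d.co (x : N) 0 = 0 from x.2).trans (show d.co (y : N) 0 = 0 from y.2).symm
  | succ k =>
    rw [← d.coeff_shiftDown x, ← d.coeff_shiftDown y]
    exact congrArg (fun w => d.co w k) h

theorem psi_deg : GrLC.IsGrHomDeg (subGr 𝒩 d.W) 𝒩 d.psi (-1) := fun g x hx => by
  refine (d.mem_gr _ _).2 fun k hk => ?_
  change d.co (d.shiftDown x) k = 0
  rw [coeff_shiftDown]
  exact (d.mem_gr _ _).1 hx (k + 1) (by push_cast; omega)

theorem killed_quot : Killed 𝒜 d.cI (N ⧸ LinearMap.range d.psi) := by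
  intro r hr y
  obtain ⟨y, rfl⟩ := Submodule.Quotient.mk_surjective _ y
  rw [← Submodule.Quotient.mk_smul, Submodule.Quotient.mk_eq_zero]
  let f : ℕ →₀ M := (d.ev r • d.co y).mapDomain Nat.succ
  have hf : ∀ k, f (k + 1) = d.ev r • d.co y k := fun k => by
    change Finsupp.mapDomain Nat.succ (d.ev r • d.co y) (Nat.succ k) = _
    rw [Finsupp.mapDomain_apply Nat.succ_injective, Finsupp.smul_apply]
  have hf0 : f 0 = 0 := Finsupp.mapDomain_of_notMem_range _ _ (by simp)
  obtain ⟨z, hz⟩ := d.co_surj f fun k => by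
    cases k with
    | zero => rw [hf0]; exact zero_mem _
    | succ k =>
      rw [hf, pow_succ', Submodule.mul_smul]
      exact Submodule.smul_mem_smul hr (d.co_mem _ _)
  have hzW : z ∈ d.W := by
    change d.co z 0 = 0
    rw [hz, hf0]
  refine ⟨⟨z, hzW⟩, d.co_inj (Finsupp.ext fun k => ?_)⟩
  change d.co (d.shiftDown ⟨z, hzW⟩) k = _
  rw [coeff_shiftDown, d.co_smul_zero, hz, hf]

theorem len_gr [IsNoetherianRing A] [IsLocalRing A] [Module.Finite A M]
    (hI : IsLocalRing.maximalIdeal A ≤ I.radical) (n : ℕ) :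
    letI := subDecomp 𝒩 d.isHomogeneous_W
    letI := qDecomp 𝒩 (isHomogeneous_range_deg (ℳ := subGr 𝒩 d.W) d.psi_deg)
    len 𝒜 (qGr 𝒩 (LinearMap.range d.psi)) (n : ℤ) = ell I M (n + 1) - ell I M n := by
  letI : Algebra (GrLC.deg0 𝒜) A := d.ev.toAlgebra
  letI : Module (GrLC.deg0 𝒜) M := Module.compHom M d.ev
  haveI : IsScalarTower (GrLC.deg0 𝒜) A M := ⟨fun r a x => by
    change (d.ev r * a) • x = d.ev r • (a • x)
    rw [mul_smul]⟩
  letI := subDecomp 𝒩 d.isHomogeneous_W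
  letI := qDecomp 𝒩 (isHomogeneous_range_deg (ℳ := subGr 𝒩 d.W) d.psi_deg)
  let U := LinearMap.range d.psi
  let p₁ : Submodule A M := I ^ (n + 1) • ⊤
  let p₀ : Submodule A M := I ^ n • ⊤
  have hle : p₁ ≤ p₀ := Submodule.smul_mono_left (Ideal.pow_le_pow_right (Nat.le_succ n))
  let θ : GrLC.comp 𝒜 𝒩 (n : ℤ) →ₗ[GrLC.deg0 𝒜] M ⧸ p₁ :=
    { toFun := fun x => Submodule.Quotient.mk (d.co (x : N) n)
      map_add' := fun x y => by rw [Submodule.coe_add, map_add d.co, Finsupp.add_apply]; rfl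
      map_smul' := fun r x => by
        change Submodule.Quotient.mk (d.co ((r : S) • (x : N)) n) = _
        rw [d.co_smul_zero]
        rfl }
  let Gq : GrLC.comp 𝒜 𝒩 (n : ℤ) →ₗ[GrLC.deg0 𝒜] GrLC.comp 𝒜 (qGr 𝒩 U) (n : ℤ) :=
    pieceMap (grHomDeg_zero_iff.2 (mkQ_grHom U)) _ _ (add_zero _)
  have hGq : Function.Surjective Gq := fun z => by
    obtain ⟨y, hy, hyz⟩ := exists_preimage (grHomDeg_zero_iff.2 (mkQ_grHom (ℳ := 𝒩) U)) (g := (n : ℤ))
      (y := (z : N ⧸ U)) (by rw [add_zero]; exact z.2) (Submodule.mkQ_surjective U z)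
    exact ⟨⟨y, hy⟩, Subtype.ext hyz⟩
  have hker : LinearMap.ker Gq = LinearMap.ker θ := by
    ext x
    rw [LinearMap.mem_ker, LinearMap.mem_ker]
    constructor
    · intro h
      obtain ⟨w, hw⟩ := (Submodule.Quotient.mk_eq_zero U).1 (congrArg Subtype.val h)
      refine (Submodule.Quotient.mk_eq_zero p₁).2 ?_
      have hw' : d.psi w = (x : N) := hw
      rw [← hw']
      change d.co (d.shiftDown w) n ∈ _
      rw [coeff_shiftDown]
      exact d.co_mem _ _
    · intro h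
      have hm : d.co (x : N) n ∈ p₁ := (Submodule.Quotient.mk_eq_zero p₁).1 h
      obtain ⟨z, hz⟩ := d.co_surj (Finsupp.single (n + 1) (d.co (x : N) n)) fun k => by
        rw [Finsupp.single_apply]
        split_ifs with hk
        · subst hk; exact hm
        · exact zero_mem _
      have hzW : z ∈ d.W := by
        change d.co z 0 = 0
        rw [hz, Finsupp.single_apply, if_neg (by omega)]
      refine Subtype.ext ((Submodule.Quotient.mk_eq_zero U).2 ⟨⟨z, hzW⟩, d.co_inj (Finsupp.ext fun k => ?_)⟩)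
      change d.co (d.shiftDown ⟨z, hzW⟩) k = _
      rw [coeff_shiftDown, hz, Finsupp.single_apply]
      split_ifs with hk
      · obtain rfl : k = n := by omega
        rfl
      · exact ((d.mem_gr _ _).1 x.2 k (by omega)).symm
  let fac : (M ⧸ p₁) →ₗ[GrLC.deg0 𝒜] (M ⧸ p₀) := (Submodule.factor hle).restrictScalars (GrLC.deg0 𝒜)
  have hrange : LinearMap.range θ = LinearMap.ker fac := by
    ext y
    rw [LinearMap.mem_ker, LinearMap.mem_range]
    constructor
    · rintro ⟨x, rfl⟩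
      exact (Submodule.Quotient.mk_eq_zero p₀).2 (d.co_mem _ _)
    · intro hy
      obtain ⟨m, rfl⟩ := Submodule.Quotient.mk_surjective p₁ y
      have hm : m ∈ p₀ := (Submodule.Quotient.mk_eq_zero p₀).1 hy
      obtain ⟨z, hz⟩ := d.co_surj (Finsupp.single n m) fun k => by
        rw [Finsupp.single_apply]
        split_ifs with hk
        · subst hk; exact hm
        · exact zero_mem _
      refine ⟨⟨z, (d.mem_gr _ _).2 fun k hk => ?_⟩, ?_⟩
      · rw [hz, Finsupp.single_apply, if_neg (by omega)]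
      · refine congrArg Submodule.Quotient.mk ?_
        change d.co z n = m
        rw [hz, Finsupp.single_eq_same]
  haveI : ∀ k : ℕ, IsArtinian A (M ⧸ (I ^ k • (⊤ : Submodule A M))) := fun k => by
    haveI := isArtinian_quotient (I ^ k) (by
      rcases Nat.eq_zero_or_pos k with rfl | hk
      · rw [pow_zero, Ideal.one_eq_top]; exact le_top.trans Ideal.le_radical
      · rw [Ideal.radical_pow I (by omega)]; exact hI)
    refine isArtinian_of_killed (I ^ k) _ fun r hr x => ?_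
    obtain ⟨y, rfl⟩ := Submodule.Quotient.mk_surjective _ x
    exact (Submodule.Quotient.mk_eq_zero _).2 (Submodule.smul_mem_smul hr trivial)
  haveI : ∀ k : ℕ, IsArtinian (GrLC.deg0 𝒜) (M ⧸ (I ^ k • (⊤ : Submodule A M))) := fun k =>
    isArtinian_of_surjective_algebraMap (R := A) d.ev_surj
  haveI : ∀ k : ℕ, IsNoetherian (GrLC.deg0 𝒜) (M ⧸ (I ^ k • (⊤ : Submodule A M))) := fun k =>
    Module.length_ne_top_iff.1 (by
      rw [Module.length_eq_of_surjective (R := A) d.ev_surj]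
      exact Module.length_ne_top) |> fun h => (isFiniteLength_iff_isNoetherian_isArtinian.1 h).1
  have hell : ∀ k : ℕ, ell I M k = ((Module.length (GrLC.deg0 𝒜) (M ⧸ (I ^ k • (⊤ : Submodule A M)))).toNat : ℚ) := fun k => by
    rw [ell, Module.length_eq_of_surjective (R := A) d.ev_surj]
  have hfac : Function.Surjective fac := Submodule.factor_surjective hle
  have hlen : Module.length (GrLC.deg0 𝒜) (GrLC.comp 𝒜 (qGr 𝒩 U) (n : ℤ)) = Module.length (GrLC.deg0 𝒜) (LinearMap.ker fac) := by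
    rw [← hrange]
    exact ((Gq.quotKerEquivOfSurjective hGq).symm.trans
      ((Submodule.quotEquivOfEq _ _ hker).trans θ.quotKerEquivRange)).length_eq
  haveI : IsArtinian (GrLC.deg0 𝒜) (M ⧸ p₁) := ‹∀ k : ℕ, IsArtinian (GrLC.deg0 𝒜) (M ⧸ (I ^ k • (⊤ : Submodule A M)))› (n + 1)
  haveI : IsNoetherian (GrLC.deg0 𝒜) (M ⧸ p₁) := ‹∀ k : ℕ, IsNoetherian (GrLC.deg0 𝒜) (M ⧸ (I ^ k • (⊤ : Submodule A M)))› (n + 1)
  rw [hell, hell, CAlgH3.GrSerreFormula.toNat_length_eq_add fac, LinearMap.range_eq_top.2 hfac,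
    Submodule.topEquiv.length_eq, add_sub_cancel_right, len, hlen]

set_option maxHeartbeats 1600000 in
include d in
/-- The Hilbert-Samuel function minus the Hilbert-Samuel polynomial. -/
theorem main [IsNoetherianRing A] [IsLocalRing A] [Module.Finite A M] [IsNoetherianRing S] [Module.Finite S N]
    (hp : ∀ n : ℤ, n < 0 → ∀ x ∈ 𝒜 n, x = 0) (Irr : HomogeneousIdeal 𝒜)
    (hPi : Irr.toIdeal = Ideal.span (⋃ n ∈ Set.Ioi (0 : ℤ), (𝒜 n : Set S))) (hI : IsLocalRing.maximalIdeal A ≤ I.radical) (P : Polynomial ℚ)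
    (hPev : ∃ N : ℕ, ∀ n : ℕ, N ≤ n → P.eval (n : ℚ) = ell I M n) (E : GrLC.StarInjRes 𝒜 𝒩) (n : ℕ) :
    (∀ i : ℕ, IsNoetherian (GrLC.deg0 𝒜) (GrLC.comp 𝒜 (E.Hgr Irr i) (n : ℤ)) ∧
        IsArtinian (GrLC.deg0 𝒜) (GrLC.comp 𝒜 (E.Hgr Irr i) (n : ℤ))) ∧
      ∃ D : ℕ, (∀ i, D < i → Subsingleton (E.H Irr i)) ∧
        P.eval (n : ℚ) - ell I M n = chi E Irr D (n : ℤ) := by
  haveI := d.isArtinian_deg0_quot hI
  haveI : IsNoetherian S N := isNoetherian_of_isNoetherianRing_of_finite _ _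
  obtain ⟨D, hD⟩ := LocCoh.exists_cdLE Irr.toIdeal
  letI := subDecomp 𝒩 d.isHomogeneous_W
  letI := qDecomp 𝒩 d.isHomogeneous_W
  letI dq := qDecomp 𝒩 (isHomogeneous_range_deg (ℳ := subGr 𝒩 d.W) d.psi_deg)
  let U := LinearMap.range d.psi
  let Ew := starRes 𝒜 (subGr 𝒩 d.W)
  let EQ := starRes 𝒜 (qGr 𝒩 d.W)
  let EG := starRes 𝒜 (qGr 𝒩 U)
  obtain ⟨δ₁, hδ₁, hinj₁, hex₁⟩ := exists_les_deg Ew EQ E Irr (f := (d.W).subtype) (g := d.W.mkQ)
    (grHomDeg_zero_iff.2 (subtype_grHom (ℳ := 𝒩) _)) Subtype.coe_injective (mkQ_grHom _)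
    (Submodule.mkQ_surjective _) (LinearMap.exact_subtype_mkQ _)
  obtain ⟨δ₂, hδ₂, hinj₂, hex₂⟩ := exists_les_deg Ew EG E Irr (f := d.psi) (g := U.mkQ)
    d.psi_deg d.psi_injective (mkQ_grHom _)
    (Submodule.mkQ_surjective _) (LinearMap.exact_map_mkQ_range _)
  have hQbd : ∀ k : ℤ, 0 < k → ∀ x ∈ qGr 𝒩 d.W k, x = 0 := by
    intro k hk x hx
    obtain ⟨y, hy, hyx⟩ := exists_preimage (grHomDeg_zero_iff.2 (mkQ_grHom (ℳ := 𝒩) d.W)) (g := k)
      (y := x) (by rwa [add_zero]) (Submodule.mkQ_surjective _ x)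
    rw [← hyx]
    exact (Submodule.Quotient.mk_eq_zero _).2 ((d.mem_gr _ _).1 hy 0 (by omega))
  letI := fun i => Hdecomp E Irr i
  letI := fun i => Hdecomp Ew Irr i
  letI := fun i => Hdecomp EG Irr i
  letI := fun i => Hdecomp EQ Irr i
  have hQ0 : ∀ i (k : ℤ), 0 < k → ∀ x ∈ EQ.Hgr Irr i k, x = 0 := fun i k hk =>
    Hgr_eq_zero_of_bdd hp 0 hQbd EQ Irr i k hk
  let inc : ∀ i (k : ℤ), GrLC.comp 𝒜 (Ew.Hgr Irr i) k →ₗ[(GrLC.deg0 𝒜)] GrLC.comp 𝒜 (E.Hgr Irr i) k := fun i k =>
    pieceMap (mapH_grHomDeg Irr (grHomDeg_zero_iff.2 (subtype_grHom (ℳ := 𝒩) d.W)) i) k k (add_zero k)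
  have hinc : ∀ i (k : ℤ), 0 < k → Function.Bijective (inc i k) := by
    intro i k hk
    refine ⟨(injective_iff_map_eq_zero _).2 fun x hx => ?_, fun y => ?_⟩
    · cases i with
      | zero => exact Subtype.ext (hinj₁ ((congrArg Subtype.val hx).trans (map_zero _).symm))
      | succ j =>
        obtain ⟨z, hz⟩ := (pieceMap_exact (𝒜 := 𝒜) (hδ₁ j)
          (mapH_grHomDeg Irr (grHomDeg_zero_iff.2 (subtype_grHom (ℳ := 𝒩) d.W)) (j + 1))
          (hex₁ j).2.2 k k k (by omega) (add_zero k) x).1 hx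
        rw [← hz, show z = 0 from Subtype.ext (hQ0 j k hk _ z.2), map_zero]
    · exact (pieceMap_exact (𝒜 := 𝒜) _ (mapH_grHomDeg Irr (grHomDeg_zero_iff.2 (mkQ_grHom (ℳ := 𝒩) d.W)) i)
        (hex₁ i).1 k k k (add_zero k) (add_zero k) y).1 (Subtype.ext (hQ0 i k hk _ (mapH_grHomDeg Irr
          (grHomDeg_zero_iff.2 (mkQ_grHom (ℳ := 𝒩) d.W)) i k y.1 y.2 |> fun h => by rwa [add_zero] at h)))
  obtain ⟨r, hr⟩ := exists_vanishing_uniform (M := N) hp Irr hPi Irr le_rfl E
  haveI : Module.Finite S d.W := Module.Finite.iff_fg.2 (IsNoetherian.noetherian _)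
  haveI hnoe := fun i k => isNoetherian_Hcomp_irrelevant hp Irr hPi i
    (inferInstance : Module.Finite S N) E k
  have hN : ∀ i (k : ℤ), IsNoetherian (GrLC.deg0 𝒜) (GrLC.comp 𝒜 (E.Hgr Irr i) k) := fun i k => hnoe i k
  have hKG : Killed 𝒜 d.cI (N ⧸ U) := d.killed_quot
  have hG := fun i k => finite_Hpiece (ℳ := qGr 𝒩 U) hp Irr hPi hKG EG i k
  have hA : ∀ (j : ℕ) (i : ℕ) (k : ℕ), r < (k + j : ℤ) → IsArtinian (GrLC.deg0 𝒜) (GrLC.comp 𝒜 (E.Hgr Irr i) (k : ℤ)) := by
    intro j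
    induction j with
    | zero =>
      intro i k hk
      haveI : Subsingleton (GrLC.comp 𝒜 (E.Hgr Irr i) (k : ℤ)) :=
        subsingleton_of_forall_eq 0 fun y => Subtype.ext (hr i k (by simpa using hk) y.1 y.2)
      infer_instance
    | succ j ih =>
      intro i k hk
      haveI := ih i (k + 1) (by push_cast at hk ⊢; omega)
      haveI := (hG i (k : ℤ)).2
      let e := LinearEquiv.ofBijective (inc i ((k + 1 : ℕ) : ℤ)) (hinc i _ (by push_cast; omega))
      haveI : IsArtinian (GrLC.deg0 𝒜) (GrLC.comp 𝒜 (Ew.Hgr Irr i) ((k + 1 : ℕ) : ℤ)) := isArtinian_of_linearEquiv e.symm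
      exact isArtinian_of_range_eq_ker
        (pieceMap (mapH_grHomDeg Irr d.psi_deg i) ((k + 1 : ℕ) : ℤ) (k : ℤ) (by push_cast; omega))
        (pieceMap (mapH_grHomDeg Irr (grHomDeg_zero_iff.2 (mkQ_grHom (ℳ := 𝒩) U)) i) (k : ℤ) (k : ℤ) (add_zero _))
        (pieceMap_exact _ _ (hex₂ i).1 _ _ _ _ _).linearMap_ker_eq.symm
  have hA' : ∀ i (k : ℕ), IsArtinian (GrLC.deg0 𝒜) (GrLC.comp 𝒜 (E.Hgr Irr i) (k : ℤ)) := fun i k =>
    hA (r + 1 - k).toNat i k (by omega)
  refine ⟨fun i => ⟨hN i n, hA' i n⟩, D, fun i hi => ?_, ?_⟩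
  · obtain ⟨e⟩ := nonempty_H_equiv E Irr i
    haveI := hD N i hi
    exact e.toEquiv.subsingleton
  have hstep : ∀ k : ℕ, chi E Irr D (k : ℤ) = chi E Irr D ((k + 1 : ℕ) : ℤ) + chi EG Irr D (k : ℤ) := by
    intro k
    let e := fun i => LinearEquiv.ofBijective (inc i ((k + 1 : ℕ) : ℤ)) (hinc i _ (by push_cast; omega))
    haveI := fun i => hN i (k : ℤ)
    haveI := fun i => hA' i k
    haveI := fun i => (hG i (k : ℤ)).1
    haveI := fun i => (hG i (k : ℤ)).2
    haveI : ∀ i, IsNoetherian (GrLC.deg0 𝒜) (GrLC.comp 𝒜 (Ew.Hgr Irr i) ((k + 1 : ℕ) : ℤ)) := fun i => by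
      haveI := hN i ((k + 1 : ℕ) : ℤ)
      exact isNoetherian_of_linearEquiv (e i).symm
    haveI : ∀ i, IsArtinian (GrLC.deg0 𝒜) (GrLC.comp 𝒜 (Ew.Hgr Irr i) ((k + 1 : ℕ) : ℤ)) := fun i => by
      haveI := hA' i (k + 1)
      exact isArtinian_of_linearEquiv (e i).symm
    haveI : Subsingleton (GrLC.comp 𝒜 (Ew.Hgr Irr (D + 1)) ((k + 1 : ℕ) : ℤ)) := by
      haveI : Subsingleton (Ew.H Irr (D + 1)) := by
        obtain ⟨e⟩ := nonempty_H_equiv Ew Irr (D + 1)
        haveI := hD d.W (D + 1) (Nat.lt_succ_self D)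
        exact e.toEquiv.subsingleton
      exact subsingleton_of_forall_eq 0 fun y => Subtype.ext (Subsingleton.elim _ _)
    have he : chi E Irr D ((k + 1 : ℕ) : ℤ) = chi Ew Irr D ((k + 1 : ℕ) : ℤ) :=
      Finset.sum_congr rfl fun i _ => by rw [len, len, (e i).length_eq]
    rw [he]
    exact CAlgH3.GrSerreFormula.euler_les (A := fun i => GrLC.comp 𝒜 (Ew.Hgr Irr i) ((k + 1 : ℕ) : ℤ))
      (B := fun i => GrLC.comp 𝒜 (E.Hgr Irr i) (k : ℤ)) (C := fun i => GrLC.comp 𝒜 (EG.Hgr Irr i) (k : ℤ))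
      (fun i => pieceMap (mapH_grHomDeg Irr d.psi_deg i) _ _ (by push_cast; omega))
      (fun i => pieceMap (mapH_grHomDeg Irr (grHomDeg_zero_iff.2 (mkQ_grHom (ℳ := 𝒩) U)) i) _ _ (add_zero _))
      (fun i => pieceMap (hδ₂ i) _ _ (by push_cast; omega))
      (fun _ _ e => Subtype.ext (hinj₂ (congrArg Subtype.val e)))
      (fun i => pieceMap_exact _ _ (hex₂ i).1 _ _ _ _ _) (fun i => pieceMap_exact _ _ (hex₂ i).2.1 _ _ _ _ _)
      (fun i => pieceMap_exact _ _ (hex₂ i).2.2 _ _ _ _ _) D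
  obtain ⟨N, hN'⟩ := hPev
  let Q : Polynomial ℚ := P.comp (Polynomial.X + Polynomial.C 1) - P
  have hQe : ∀ q : ℚ, Q.eval q = P.eval (q + 1) - P.eval q := fun q => by simp [Q]
  have hserre : ∀ l : ℤ, len 𝒜 (qGr 𝒩 U) l - Q.eval (l : ℚ) = chi EG Irr D l := fun l =>
    serre_formula (c := d.cI) hp Irr hPi hD _ _ (qGr 𝒩 U) hKG rfl EG Q ⟨(N : ℤ), fun j hj => by
      obtain ⟨k, rfl⟩ := Int.eq_ofNat_of_zero_le ((Int.natCast_nonneg N).trans hj)
      rw [d.len_gr hI k, hQe, Int.cast_natCast, hN' k (by omega), ← Nat.cast_add_one, hN' (k + 1) (by omega)]⟩ l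
  have hall : ∀ (j k : ℕ), r < (k + j : ℤ) → N ≤ k + j → P.eval (k : ℚ) - ell I M k = chi E Irr D (k : ℤ) := by
    intro j
    induction j with
    | zero =>
      intro k hk hk'
      rw [hN' k (by omega), sub_self]
      exact (Finset.sum_eq_zero fun i _ => by
        rw [len_eq_zero (hr i k (by simpa using hk)), mul_zero]).symm
    | succ j ih =>
      intro k hk hk'
      have h1 := ih (k + 1) (by push_cast at hk ⊢; omega) (by omega)
      have h2 := hserre (k : ℤ)
      rw [d.len_gr hI k, hQe, Int.cast_natCast] at h2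
      rw [hstep k, ← h1, ← h2]
      push_cast
      ring
  exact hall ((r + 1 - n).toNat + N) n (by omega) (by omega)

end Coeffs

open Polynomial in
/-- The coefficient data of the Rees module. -/
noncomputable def reesCoeffs {A : Type u} [CommRing A] (I : Ideal A) (M : Type u) [AddCommGroup M] [Module A M] :
    Coeffs I M (_root_.Rees.degZ (reesAlgebra I)) (_root_.Rees.mdegZ (_root_.Rees.powFilt I M)) where
  co :=
    { toFun := fun x => (x : PolynomialModule A M).coeff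
      map_zero' := rfl
      map_add' := fun x y => rfl }
  co_inj := fun x y h => Subtype.ext (PolynomialModule.coeff_injective h)
  co_mem := fun x k => x.2 k
  co_surj := fun f hf => ⟨⟨PolynomialModule.ofCoeff A f, hf⟩, rfl⟩
  mem_gr := fun g x => Iff.rfl
  e := fun s i => ((s : A[X])).coeff i
  co_smul := fun s x k => PolynomialModule.smul_apply (s : A[X]) (x : PolynomialModule A M) k
  ev := (Polynomial.constantCoeff.comp (reesAlgebra I).val.toRingHom).comp
    (GrLC.deg0 (_root_.Rees.degZ (reesAlgebra I))).subtype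
  ev_surj := fun a => by
    refine ⟨⟨algebraMap A (reesAlgebra I) a, fun m hm => ?_⟩, ?_⟩
    · change (C a : A[X]).coeff m = 0
      rw [coeff_C, if_neg (by simpa using hm)]
    · change (C a : A[X]).coeff 0 = a
      rw [coeff_C, if_pos rfl]
  co_smul_zero := fun r x k => by
    change (((r : reesAlgebra I) : A[X]) • (x : PolynomialModule A M)).coeff k =
      ((r : reesAlgebra I) : A[X]).coeff 0 • (x : PolynomialModule A M).coeff k
    rw [PolynomialModule.smul_apply, Finset.sum_eq_single (0, k) ?_ (by simp)]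
    rintro ⟨i, j⟩ hij hne
    rw [Finset.HasAntidiagonal.mem_antidiagonal] at hij
    rw [r.2 i (by
      simp only [Nat.coe_castAddMonoidHom, ne_eq, Nat.cast_eq_zero]
      rintro rfl
      exact hne (by simpa using hij)), zero_smul]

theorem rees_hpos {A : Type u} [CommRing A] (I : Ideal A) :
    ∀ n : ℤ, n < 0 → ∀ x ∈ _root_.Rees.degZ (reesAlgebra I) n, x = 0 := fun n hn x hx =>
  Subtype.ext (Polynomial.ext fun m => by rw [hx m (by simp only [Nat.coe_castAddMonoidHom]; omega)]; rfl)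

theorem rees_hP {A : Type u} [CommRing A] (I : Ideal A) :
    (GrSyz.irrel (_root_.Rees.degZ (reesAlgebra I))).toIdeal =
      Ideal.span (⋃ n ∈ Set.Ioi (0 : ℤ), (_root_.Rees.degZ (reesAlgebra I) n : Set (reesAlgebra I))) := by
  refine congrArg Ideal.span (Set.ext fun x => ?_)
  simp only [Set.mem_iUnion, Set.mem_Ioi, SetLike.mem_coe, exists_prop]
  rfl

theorem rees_finite {A : Type u} [CommRing A] [IsNoetherianRing A] (I : Ideal A) (M : Type u) [AddCommGroup M]
    [Module A M] [Module.Finite A M] :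
    Module.Finite (reesAlgebra I) (_root_.Rees.powFilt I M).submodule :=
  Module.Finite.iff_fg.2 (((_root_.Rees.powFilt I M).submodule_fg_iff_stable fun _ => IsNoetherian.noetherian _).2
    (I.stableFiltration_stable ⊤))

end Groth.Agent.GrPos9.ReesSerre
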