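import Groth.Agent.CAlgH3.GrSerreFormula
import Groth.Agent.GrLib.Piece

/-!
Serre's formula for finite graded modules over a non-negatively graded Noetherian ring which are killed by an
ideal of the degree zero part with Artinian quotient.
-/

set_option autoImplicit false
set_option linter.unusedSectionVars false
set_option linter.unusedVariables false
set_option linter.style.haveILetI false

universe u

open DirectSum Groth.Agent.GrLib
open Groth.Agent.CAlgH3.GrSerreFormula (toNat_length_eq_add euler_les)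

namespace Groth.Agent.GrPos9

variable {R : Type u} [CommRing R] [IsNoetherianRing R] {σ : Type u} [SetLike σ R] [AddSubgroupClass σ R]
  {𝒜 : ℤ → σ} [GradedRing 𝒜]

/-- Killed by an ideal of the degree zero part. -/
def Killed (𝒜 : ℤ → σ) [GradedRing 𝒜] (c : Ideal (GrLC.deg0 𝒜)) (X : Type u) [AddCommGroup X] [Module R X] :
    Prop :=
  ∀ r ∈ c, ∀ x : X, (r : R) • x = 0

variable {c : Ideal (GrLC.deg0 𝒜)}

theorem Killed.sub {X : Type u} [AddCommGroup X] [Module R X] (h : Killed 𝒜 c X) (N : Submodule R X) :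
    Killed 𝒜 c N := fun r hr x => Subtype.ext (h r hr x)

theorem Killed.quot {X : Type u} [AddCommGroup X] [Module R X] (h : Killed 𝒜 c X) (N : Submodule R X) :
    Killed 𝒜 c (X ⧸ N) := fun r hr x => by
  obtain ⟨y, rfl⟩ := Submodule.Quotient.mk_surjective N x
  rw [← Submodule.Quotient.mk_smul, h r hr y, Submodule.Quotient.mk_zero]

theorem isArtinian_of_killed {B : Type u} [CommRing B] (I : Ideal B) [IsArtinian B (B ⧸ I)] (N : Type u)
    [AddCommGroup N] [Module B N] [IsNoetherian B N] (h : ∀ r ∈ I, ∀ x : N, r • x = 0) : IsArtinian B N := by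
  classical
  obtain ⟨k, s, hs⟩ := Module.Finite.exists_fin (R := B) (M := N)
  let g : (Fin k → B ⧸ I) →ₗ[B] N := ∑ j : Fin k,
    (I.liftQ (LinearMap.toSpanSingleton B N (s j)) fun r hr => h r hr _).comp (LinearMap.proj j)
  refine isArtinian_of_surjective (Fin k → B ⧸ I) g (LinearMap.range_eq_top.1 (top_unique ?_))
  rw [← hs, Submodule.span_le]
  rintro _ ⟨j, rfl⟩
  refine ⟨Pi.single j (Submodule.Quotient.mk 1), ?_⟩
  rw [LinearMap.sum_apply, Finset.sum_eq_single j (fun i _ hi => ?_) (fun h => absurd (Finset.mem_univ j) h)]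
  · rw [LinearMap.comp_apply, LinearMap.proj_apply, Pi.single_eq_same]
    exact one_smul B (s j)
  · simp [Pi.single_eq_of_ne hi]

section pieces

variable {X : Type u} [AddCommGroup X] [Module R X] {𝒳 : ℤ → AddSubgroup X} [Decomposition 𝒳]
  [SetLike.GradedSMul 𝒜 𝒳] {Y : Type u} [AddCommGroup Y] [Module R Y] {𝒴 : ℤ → AddSubgroup Y}
  [Decomposition 𝒴] [SetLike.GradedSMul 𝒜 𝒴] {Z : Type u} [AddCommGroup Z] [Module R Z]
  {𝒵 : ℤ → AddSubgroup Z} [Decomposition 𝒵] [SetLike.GradedSMul 𝒜 𝒵]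

/-- The length of a piece. -/
noncomputable def len (𝒜 : ℤ → σ) [GradedRing 𝒜] (𝒳 : ℤ → AddSubgroup X)
    [SetLike.GradedSMul 𝒜 𝒳] (n : ℤ) : ℚ :=
  ((Module.length (GrLC.deg0 𝒜) (GrLC.comp 𝒜 𝒳 n)).toNat : ℚ)

omit [Decomposition 𝒳] in
theorem len_eq_zero {n : ℤ} (h : ∀ x ∈ 𝒳 n, x = 0) : len 𝒜 𝒳 n = 0 := by
  haveI : Subsingleton (GrLC.comp 𝒜 𝒳 n) := subsingleton_of_forall_eq 0 fun x => Subtype.ext (h x x.2)
  simp [len]

variable [IsArtinian (GrLC.deg0 𝒜) (GrLC.deg0 𝒜 ⧸ c)]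

theorem isArtinian_comp (hK : Killed 𝒜 c Y) (n : ℤ) [IsNoetherian (GrLC.deg0 𝒜) (GrLC.comp 𝒜 𝒴 n)] :
    IsArtinian (GrLC.deg0 𝒜) (GrLC.comp 𝒜 𝒴 n) :=
  isArtinian_of_killed c _ fun r hr x => Subtype.ext (hK r hr x)

theorem len_short [Module.Finite R Y] {f : X →ₗ[R] Y} {d : ℤ} (hf : GrLC.IsGrHomDeg 𝒳 𝒴 f d)
    (hi : Function.Injective f) {g : Y →ₗ[R] Z} (hg : GrLC.IsGrHom 𝒴 𝒵 g) (hs : Function.Surjective g)
    (hex : Function.Exact f g) (hK : Killed 𝒜 c Y) (n : ℤ) :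
    len 𝒜 𝒴 n = len 𝒜 𝒳 (n - d) + len 𝒜 𝒵 n := by
  let F := pieceMap (𝒜 := 𝒜) hf (n - d) n (sub_add_cancel n d)
  let G := pieceMap (𝒜 := 𝒜) (grHomDeg_zero_iff.2 hg) n n (add_zero n)
  haveI : IsNoetherian (GrLC.deg0 𝒜) (GrLC.comp 𝒜 𝒴 n) := isNoetherian_piece 𝒜 𝒴 n
  haveI : IsArtinian (GrLC.deg0 𝒜) (GrLC.comp 𝒜 𝒴 n) := isArtinian_comp (c := c) hK n
  have hG : Function.Surjective G := fun z => by
    obtain ⟨y, hy, hyz⟩ := exists_preimage (grHomDeg_zero_iff.2 hg) (g := n) (y := (z : Z))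
      (by rw [add_zero]; exact z.2) (hs z)
    exact ⟨⟨y, hy⟩, Subtype.ext hyz⟩
  have hFG : Function.Exact F G := pieceMap_exact hf (grHomDeg_zero_iff.2 hg) hex _ _ _ _ _
  have hF : Function.Injective F := fun _ _ e => Subtype.ext (hi (congrArg Subtype.val e))
  rw [len, toNat_length_eq_add G, hFG.linearMap_ker_eq, LinearMap.range_eq_top.2 hG, Submodule.topEquiv.length_eq]
  congr 2
  exact congrArg ENat.toNat (LinearEquiv.ofInjective F hF).length_eq.symm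

end pieces

section zero

variable {M : Type u} [AddCommGroup M] [Module R M] {ℳ : ℤ → AddSubgroup M} [Decomposition ℳ]
  [SetLike.GradedSMul 𝒜 ℳ] (G : GrLC.StarInjRes 𝒜 ℳ) (a : HomogeneousIdeal 𝒜)

/-- The class of a torsion element in `H⁰`. -/
noncomputable def h0cls : GrLC.gam a.toIdeal M →ₗ[R] G.H a 0 :=
  (G.toH a 0).comp (((G.ε).comp (GrLC.gam a.toIdeal M).subtype).codRestrict (G.cocyc a 0) fun x =>
    ⟨map_gam_le G.ε (Submodule.mem_map_of_mem x.2), LinearMap.mem_ker.2 (d_comp_ε G _)⟩)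

theorem h0cls_eq_zero {x : GrLC.gam a.toIdeal M} (h : h0cls G a x = 0) : x = 0 := by
  have h1 := (toH_eq_zero a).1 h
  exact Subtype.ext (G.ε_injective (((Submodule.mem_bot R).1 h1).trans (map_zero G.ε).symm))

theorem h0cls_mem {g : ℤ} {x : GrLC.gam a.toIdeal M} (hx : (x : M) ∈ ℳ g) : h0cls G a x ∈ G.Hgr a 0 g :=
  ⟨_, G.ε_grHom _ _ hx, rfl⟩

theorem exists_h0cls {g : ℤ} {y : G.H a 0} (hy : y ∈ G.Hgr a 0 g) :
    ∃ x : GrLC.gam a.toIdeal M, (x : M) ∈ ℳ g ∧ h0cls G a x = y := by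
  obtain ⟨z, hz, rfl⟩ := hy
  obtain ⟨w, hw⟩ := exists_ε_eq G (LinearMap.mem_ker.1 z.2.2)
  have hwz : G.ε (proj ℳ g w) = z := by rw [← proj_map G.ε_grHom, hw, proj_of_mem hz]
  obtain ⟨k, hk⟩ := z.2.1
  refine ⟨⟨proj ℳ g w, k, fun r hr => G.ε_injective ?_⟩, proj_mem ℳ g w, congrArg (G.toH a 0) (Subtype.ext hwz)⟩
  rw [map_smul, hwz, hk r hr, map_zero]

end zero

variable (hpos : ∀ n : ℤ, n < 0 → ∀ x ∈ 𝒜 n, x = 0) (P : HomogeneousIdeal 𝒜)
  (hP : P.toIdeal = Ideal.span (⋃ n ∈ Set.Ioi (0 : ℤ), (𝒜 n : Set R)))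
  {D : ℕ} (hD : _root_.LocCoh.CdLE R P.toIdeal D)

variable {M : Type u} [AddCommGroup M] [Module R M] {ℳ : ℤ → AddSubgroup M} [Decomposition ℳ]
  [SetLike.GradedSMul 𝒜 ℳ]

/-- The alternating sum of lengths. -/
noncomputable def chi (E : GrLC.StarInjRes 𝒜 ℳ) (P : HomogeneousIdeal 𝒜) (D : ℕ) (n : ℤ) : ℚ :=
  ∑ i ∈ Finset.range (D + 1), (-1 : ℚ) ^ i * len 𝒜 (E.Hgr P i) n

theorem killed_H (hK : Killed 𝒜 c M) (E : GrLC.StarInjRes 𝒜 ℳ) (i : ℕ) : Killed 𝒜 c (E.H P i) := by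
  intro r hr y
  have h0 : ((r : R) • LinearMap.id : M →ₗ[R] M) = 0 • LinearMap.id := LinearMap.ext fun x => by
    simp [hK r hr x]
  have hr0 : (r : R) ∈ 𝒜 0 := r.2
  have h0' : GrLC.IsGrHomDeg ℳ ℳ ((0 : R) • LinearMap.id : M →ₗ[R] M) 0 := smul_id_grHomDeg (zero_mem (𝒜 0))
  have := mapH_congr (E := E) (F := E) P (φ := (r : R) • LinearMap.id) (ψ := (0 : R) • LinearMap.id)
    (d := 0) (e := 0) (LinearMap.ext fun x => by simp [hK r hr x]) rfl (smul_id_grHomDeg hr0) h0' i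
  rw [mapH_smul_id P hr0, mapH_smul_id P (zero_mem (𝒜 0))] at this
  have := DFunLike.congr_fun this y
  simpa using this

variable [IsArtinian (GrLC.deg0 𝒜) (GrLC.deg0 𝒜 ⧸ c)]

include hpos hP in
theorem finite_Hpiece [Module.Finite R M] (hK : Killed 𝒜 c M) (E : GrLC.StarInjRes 𝒜 ℳ) (i : ℕ) (n : ℤ) :
    IsNoetherian (GrLC.deg0 𝒜) (GrLC.comp 𝒜 (E.Hgr P i) n) ∧
      IsArtinian (GrLC.deg0 𝒜) (GrLC.comp 𝒜 (E.Hgr P i) n) := by
  letI := Hdecomp E P i
  haveI : IsNoetherian (GrLC.deg0 𝒜) (GrLC.comp 𝒜 (E.Hgr P i) n) :=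
    isNoetherian_Hcomp_irrelevant hpos P hP i (inferInstance : Module.Finite R M) E n
  exact ⟨inferInstance, isArtinian_comp (killed_H P hK E i) n⟩

include hpos hP hD in
theorem chi_add [Module.Finite R M] {N : Type u} [AddCommGroup N] [Module R N] [Module.Finite R N]
    {𝒩 : ℤ → AddSubgroup N} [Decomposition 𝒩] [SetLike.GradedSMul 𝒜 𝒩]
    {Q : Type u} [AddCommGroup Q] [Module R Q] [Module.Finite R Q] {𝒬 : ℤ → AddSubgroup Q}
    [Decomposition 𝒬] [SetLike.GradedSMul 𝒜 𝒬]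
    (E : GrLC.StarInjRes 𝒜 ℳ) (G : GrLC.StarInjRes 𝒜 𝒬) (F : GrLC.StarInjRes 𝒜 𝒩)
    {f : M →ₗ[R] N} {d : ℤ} (hf : GrLC.IsGrHomDeg ℳ 𝒩 f d) (hfi : Function.Injective f)
    {g : N →ₗ[R] Q} (hg : GrLC.IsGrHom 𝒩 𝒬 g) (hgs : Function.Surjective g) (hfg : Function.Exact f g)
    (hM : Killed 𝒜 c M) (hN : Killed 𝒜 c N) (hQ : Killed 𝒜 c Q)
    (n : ℤ) : chi F P D n = chi E P D (n - d) + chi G P D n := by
  obtain ⟨δ, hδ, hinj, hex⟩ := exists_les_deg E G F P hf hfi hg hgs hfg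
  letI := fun i => Hdecomp E P i
  letI := fun i => Hdecomp F P i
  letI := fun i => Hdecomp G P i
  haveI := fun i k => (finite_Hpiece hpos P hP hM E i k).1
  haveI := fun i k => (finite_Hpiece hpos P hP hN F i k).1
  haveI := fun i k => (finite_Hpiece hpos P hP hQ G i k).1
  haveI := fun i k => (finite_Hpiece hpos P hP hM E i k).2
  haveI := fun i k => (finite_Hpiece hpos P hP hN F i k).2
  haveI := fun i k => (finite_Hpiece hpos P hP hQ G i k).2
  haveI : Subsingleton (GrLC.comp 𝒜 (E.Hgr P (D + 1)) (n - d)) := by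
    haveI : Subsingleton (E.H P (D + 1)) := by
      obtain ⟨e⟩ := nonempty_H_equiv E P (D + 1)
      haveI := hD M (D + 1) (Nat.lt_succ_self D)
      exact e.toEquiv.subsingleton
    exact subsingleton_of_forall_eq 0 fun y => Subtype.ext (Subsingleton.elim _ _)
  exact euler_les (A := fun i => GrLC.comp 𝒜 (E.Hgr P i) (n - d)) (B := fun i => GrLC.comp 𝒜 (F.Hgr P i) n)
    (C := fun i => GrLC.comp 𝒜 (G.Hgr P i) n)
    (fun i => pieceMap (mapH_grHomDeg P hf i) _ _ (sub_add_cancel n d))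
    (fun i => pieceMap (mapH_grHomDeg P (grHomDeg_zero_iff.2 hg) i) _ _ (add_zero n))
    (fun i => pieceMap (hδ i) _ _ (sub_eq_add_neg n d).symm)
    (fun _ _ e => Subtype.ext (hinj (congrArg Subtype.val e)))
    (fun i => pieceMap_exact _ _ (hex i).1 _ _ _ _ _) (fun i => pieceMap_exact _ _ (hex i).2.1 _ _ _ _ _)
    (fun i => pieceMap_exact _ _ (hex i).2.2 _ _ _ _ _) D

omit [IsArtinian (GrLC.deg0 𝒜) (GrLC.deg0 𝒜 ⧸ c)] in
theorem chi_torsion [Module.Finite R M] (D : ℕ) (htor : GrLC.gam P.toIdeal M = ⊤) (E : GrLC.StarInjRes 𝒜 ℳ)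
    (n : ℤ) : chi E P D n = len 𝒜 ℳ n := by
  rw [chi, Finset.sum_eq_single 0 (fun i _ hi => ?_) (fun h => absurd (Finset.mem_range.2 (Nat.succ_pos D)) h),
    pow_zero, one_mul]
  · let Φ : GrLC.comp 𝒜 ℳ n →ₗ[GrLC.deg0 𝒜] GrLC.comp 𝒜 (E.Hgr P 0) n :=
      { toFun := fun x => ⟨h0cls E P ⟨x.1, htor ▸ Submodule.mem_top⟩, h0cls_mem E P x.2⟩
        map_add' := fun x y => Subtype.ext
          (map_add (h0cls E P) ⟨x.1, htor ▸ Submodule.mem_top⟩ ⟨y.1, htor ▸ Submodule.mem_top⟩)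
        map_smul' := fun r x => Subtype.ext
          (map_smul (h0cls E P) (r : R) ⟨x.1, htor ▸ Submodule.mem_top⟩) }
    have hb : Function.Bijective Φ := by
      refine ⟨(injective_iff_map_eq_zero _).2 fun x hx => Subtype.ext ?_, fun y => ?_⟩
      · have h1 := congrArg Subtype.val (h0cls_eq_zero E P (congrArg Subtype.val hx))
        exact h1
      · obtain ⟨x, hx, hxy⟩ := exists_h0cls E P y.2
        exact ⟨⟨x.1, hx⟩, Subtype.ext hxy⟩
    exact congrArg (fun a : ℕ∞ => (a.toNat : ℚ)) (LinearEquiv.ofBijective Φ hb).length_eq.symm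
  · haveI : Subsingleton (E.H P i) := by
      obtain ⟨e⟩ := nonempty_H_equiv E P i
      haveI := LocCoh.subsingleton_H_of_powerTorsion (I := P.toIdeal) i M
        (fun x => htor.ge (Submodule.mem_top (x := x))) (Nat.pos_of_ne_zero hi)
      exact e.toEquiv.subsingleton
    rw [len_eq_zero fun x _ => Subsingleton.elim x 0, mul_zero]

include hpos hP hD in
/-- Serre's formula. -/
theorem serre_formula : ∀ (J : Ideal R) (M : Type u) [AddCommGroup M] [Module R M] [Module.Finite R M]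
    (ℳ : ℤ → AddSubgroup M) [Decomposition ℳ] [SetLike.GradedSMul 𝒜 ℳ],
    Killed 𝒜 c M → Module.annihilator R M = J → ∀ (E : GrLC.StarInjRes 𝒜 ℳ) (Q : Polynomial ℚ),
      (∃ N : ℤ, ∀ n, N ≤ n → Q.eval (n : ℚ) = len 𝒜 ℳ n) →
        ∀ n, len 𝒜 ℳ n - Q.eval (n : ℚ) = chi E P D n := by
  classical
  intro J
  induction J using WellFoundedGT.induction with
  | _ J ih =>
    intro M _ _ _ ℳ _ _ hK hJ E Q hQev n
    have hΓh := isHomogeneous_gam (M := M) (ℳ := ℳ) P.isHomogeneous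
    letI := subDecomp ℳ hΓh
    letI := qDecomp ℳ hΓh
    set Γ := GrLC.gam P.toIdeal M with hΓdef
    have hKΓ := hK.sub Γ
    have hKq := hK.quot Γ
    haveI : Module.Finite R Γ := Module.Finite.iff_fg.2 (IsNoetherian.noetherian _)
    have htor : GrLC.gam P.toIdeal Γ = ⊤ := eq_top_iff.2 fun x _ => by
      obtain ⟨j, hj⟩ := x.2
      exact ⟨j, fun r hr => Subtype.ext (hj r hr)⟩
    let E₁ := starRes 𝒜 (subGr ℳ Γ)
    let E₂ := starRes 𝒜 (qGr ℳ Γ)
    have hchi := chi_add hpos P hP hD E₁ E₂ E (grHomDeg_zero_iff.2 (subtype_grHom (ℳ := ℳ) Γ))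
      Subtype.coe_injective (mkQ_grHom Γ) (Submodule.mkQ_surjective _) (LinearMap.exact_subtype_mkQ _) hKΓ hK hKq n
    have hlen := fun l => len_short (c := c) (grHomDeg_zero_iff.2 (subtype_grHom (ℳ := ℳ) Γ))
      Subtype.coe_injective (mkQ_grHom Γ) (Submodule.mkQ_surjective _) (LinearMap.exact_subtype_mkQ _) hK l
    simp only [sub_zero] at hchi hlen
    rw [hchi, chi_torsion P D htor E₁ n, hlen n, add_sub_assoc, add_right_inj]
    obtain ⟨kΓ, hkΓ⟩ := exists_pow_kill P.toIdeal Γ fun x => by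
      obtain ⟨j, hj⟩ := x.2
      exact ⟨j, fun r hr => Subtype.ext (hj r hr)⟩
    obtain ⟨rΓ, hrΓ⟩ := exists_bdd_of_kill (ℳ := subGr ℳ Γ) hpos P hP kΓ hkΓ
    obtain ⟨N, hN⟩ := hQev
    have hP' : ∀ l, max N (rΓ + 1) ≤ l → Q.eval (l : ℚ) = len 𝒜 (qGr ℳ Γ) l := fun l hl => by
      rw [hN l (le_of_max_le_left hl), hlen l,
        len_eq_zero (hrΓ l (by have := le_of_max_le_right hl; omega)), zero_add]
    rcases subsingleton_or_nontrivial (M ⧸ Γ) with hsub | hnt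
    · have hz : ∀ l, len 𝒜 (qGr ℳ Γ) l = 0 := fun l => len_eq_zero fun x _ => Subsingleton.elim x 0
      have hP0 : Q = 0 := Polynomial.eq_zero_of_infinite_isRoot Q
        (Set.infinite_of_injective_forall_mem (f := fun j : ℕ => ((max N (rΓ + 1) + j : ℤ) : ℚ))
          (fun a b h => by simpa using h) fun j => (hP' _ (by omega)).trans (hz _))
      rw [hP0, Polynomial.eval_zero, sub_zero, hz]
      have hgt : GrLC.gam P.toIdeal (M ⧸ Γ) = ⊤ := Subsingleton.elim _ _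
      rw [chi_torsion P D hgt E₂ n, hz]
    obtain ⟨d, hd, x, hx, hreg⟩ := exists_regular_hom (ℳ := qGr ℳ Γ) hpos P hP
      (gam_quotient_eq_bot P.toIdeal)
    set g := (x • LinearMap.id : (M ⧸ Γ) →ₗ[R] (M ⧸ Γ)) with hg
    have hgd : GrLC.IsGrHomDeg (qGr ℳ Γ) (qGr ℳ Γ) g d := smul_id_grHomDeg hx
    letI := qDecomp (qGr ℳ Γ) (isHomogeneous_range_deg hgd)
    set U := LinearMap.range g
    have hKU := hKq.quot U
    have hJlt : J < Module.annihilator R ((M ⧸ Γ) ⧸ U) := by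
      have hJ1 : J ≤ Module.annihilator R (M ⧸ Γ) := hJ ▸ LinearMap.annihilator_le_of_surjective _ (Submodule.mkQ_surjective Γ)
      have hxmem : x ∈ Module.annihilator R ((M ⧸ Γ) ⧸ U) := Module.mem_annihilator.2 fun z => by
        obtain ⟨y, rfl⟩ := Submodule.Quotient.mk_surjective U z
        rw [← Submodule.Quotient.mk_smul, Submodule.Quotient.mk_eq_zero]
        exact ⟨y, rfl⟩
      refine lt_of_le_of_ne (hJ1.trans (LinearMap.annihilator_le_of_surjective _ (Submodule.mkQ_surjective U)))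
        fun h => ?_
      obtain ⟨y, hy⟩ := exists_ne (0 : M ⧸ Γ)
      refine hy (hreg ?_)
      show x • y = x • 0
      rw [smul_zero]
      exact Module.mem_annihilator.1 (hJ1 (h ▸ hxmem)) y
    let E₃ := starRes 𝒜 (qGr (qGr ℳ Γ) U)
    have hlen2 := fun l => len_short (c := c) hgd hreg (mkQ_grHom (ℳ := qGr ℳ Γ) U) (Submodule.mkQ_surjective _)
      (LinearMap.exact_map_mkQ_range g) hKq l
    let P₂ : Polynomial ℚ := Q - Q.comp (Polynomial.X - Polynomial.C (d : ℚ))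
    have hP₂e : ∀ l : ℤ, P₂.eval (l : ℚ) = Q.eval (l : ℚ) - Q.eval ((l - d : ℤ) : ℚ) := fun l => by
      simp [P₂]
    have hQ := fun l => ih _ hJlt _ (qGr (qGr ℳ Γ) U) hKU rfl E₃ P₂ ⟨max N (rΓ + 1) + d, fun j hj => by
      rw [hP₂e, hP' j (by omega), hP' (j - d) (by omega), hlen2 j, add_sub_cancel_left]⟩ l
    let ψ : ℤ → ℚ := fun l => chi E₂ P D l - (len 𝒜 (qGr ℳ Γ) l - Q.eval (l : ℚ))
    have hper : ∀ l, ψ l = ψ (l - d) := fun l => by
      have h1 := chi_add hpos P hP hD E₂ E₃ E₂ hgd hreg (mkQ_grHom (ℳ := qGr ℳ Γ) U) (Submodule.mkQ_surjective _)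
        (LinearMap.exact_map_mkQ_range g) hKq hKq hKU l
      have h2 := hQ l
      rw [hP₂e] at h2
      have h3 := hlen2 l
      simp only [ψ]
      linarith
    obtain ⟨r₂, hr₂⟩ := exists_vanishing_uniform (M := M ⧸ Γ) hpos P hP P le_rfl E₂
    have hev : ∀ l, max (max N (rΓ + 1)) (r₂ + 1) ≤ l → ψ l = 0 := fun l hl => by
      have h0 : chi E₂ P D l = 0 := Finset.sum_eq_zero fun i _ => by
        rw [len_eq_zero (hr₂ i l (by have := le_of_max_le_right hl; omega)), mul_zero]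
      simp only [ψ, h0, hP' l (le_of_max_le_left hl), sub_self]
    have hall : ∀ (j : ℕ) (l : ℤ), max (max N (rΓ + 1)) (r₂ + 1) ≤ l + j * d → ψ l = 0 := by
      intro j
      induction j with
      | zero => intro l hl; exact hev l (by simpa using hl)
      | succ j ihj =>
        intro l hl
        have := ihj (l + d) (by push_cast at hl; linarith)
        rwa [hper (l + d), add_sub_cancel_right] at this
    have hψ : ψ n = 0 := hall ((max (max N (rΓ + 1)) (r₂ + 1)) - n).toNat n (by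
      have := Int.self_le_toNat ((max (max N (rΓ + 1)) (r₂ + 1)) - n)
      nlinarith)
    exact (sub_eq_zero.1 hψ).symm

end Groth.Agent.GrPos9
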