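import Groth.Agent.GrLib.Positive

/-!
Vanishing in large degrees of graded local cohomology at the ideal generated by the elements of
positive degree, for an arbitrary `ℤ`-graded Noetherian ring.
-/

set_option autoImplicit false
set_option linter.unusedSectionVars false
set_option linter.unusedVariables false
set_option linter.style.haveILetI false

universe u

open DirectSum
open Groth.Agent.GrLib hiding exists_deg_le_pow exists_bdd_of_kill exists_avoid_hom exists_regular_hom exists_vanishing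

namespace Groth.Agent.GrPos9

variable {R : Type u} [CommRing R] {σ : Type u} [SetLike σ R] [AddSubgroupClass σ R]
  {𝒜 : ℤ → σ} [GradedRing 𝒜] [IsNoetherianRing R]
variable {M : Type u} [AddCommGroup M] [Module R M] {τ : Type u} [SetLike τ M] [AddSubgroupClass τ M]
  {ℳ : ℤ → τ} [Decomposition ℳ] [SetLike.GradedSMul 𝒜 ℳ]

variable (P : HomogeneousIdeal 𝒜)
  (hP : P.toIdeal = Ideal.span (⋃ n ∈ Set.Ioi (0 : ℤ), (𝒜 n : Set R)))

include hP in
theorem exists_deg_le_pow (k : ℕ) : ∃ D : ℤ, ∀ d, D ≤ d → ∀ x ∈ 𝒜 d, x ∈ P.toIdeal ^ k := by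
  classical
  induction k with
  | zero => exact ⟨0, fun d _ x _ => by rw [pow_zero, Ideal.one_eq_top]; trivial⟩
  | succ k ih =>
    obtain ⟨D, hD⟩ := ih
    obtain ⟨m, y, e, hy, hspan⟩ := exists_irrelevant_gens P hP
    refine ⟨(Finset.univ.sum fun j => e j) + |D| + 1, fun d hd x hx => ?_⟩
    have hsum : 0 ≤ Finset.univ.sum fun j => e j := Finset.sum_nonneg fun j _ => (hy j).1.le
    have habs := le_abs_self D
    have hxP : x ∈ P.toIdeal := mem_irrelevant_of_pos P hP (by have := abs_nonneg D; omega) hx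
    rw [hspan] at hxP
    obtain ⟨c, hc⟩ := (Submodule.mem_span_range_iff_exists_fun R).1 hxP
    have hxe : x = ∑ j, y j • proj 𝒜 (d - e j) (c j) := by
      conv_lhs => rw [← proj_of_mem hx, ← hc, map_sum]
      refine Finset.sum_congr rfl fun j _ => ?_
      rw [smul_eq_mul, mul_comm, ← smul_eq_mul, proj_smul' (ℳ := 𝒜) (hy j).2]
    rw [hxe, pow_succ']
    refine sum_mem fun j _ => ?_
    refine Ideal.mul_mem_mul (hspan ▸ Ideal.subset_span ⟨j, rfl⟩) (hD _ ?_ _ (proj_mem 𝒜 _ _))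
    have := Finset.single_le_sum (fun i _ => (hy i).1.le) (Finset.mem_univ j)
    omega

include hP in
/-- A finite graded module killed by a power of the irrelevant ideal is bounded above. -/
theorem exists_bdd_of_kill [Module.Finite R M] (k : ℕ) (hk : ∀ r ∈ P.toIdeal ^ k, ∀ x : M, r • x = 0) :
    ∃ r : ℤ, ∀ n, r < n → ∀ x ∈ ℳ n, x = 0 := by
  classical
  obtain ⟨m, z, g, hz, hspan⟩ := exists_hom_generators (ℳ := ℳ) 𝒜
  obtain ⟨D, hD⟩ := exists_deg_le_pow P hP k
  refine ⟨|D| + Finset.univ.sum fun j => |g j|, fun n hn x hx => ?_⟩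
  obtain ⟨c, hc⟩ := (Submodule.mem_span_range_iff_exists_fun R).1 (hspan ▸ Submodule.mem_top (x := x))
  rw [← proj_of_mem hx, ← hc, map_sum]
  refine Finset.sum_eq_zero fun j _ => ?_
  refine smul_induction 𝒜 (motive := fun r => proj ℳ n (r • z j) = 0) (by simp) ?_ ?_ (c j)
  · intro a s hs
    by_cases h : a + g j = n
    · have h1 : |g j| ≤ ∑ i, |g i| :=
        Finset.single_le_sum (f := fun j => |g j|) (fun i _ => abs_nonneg (g i)) (Finset.mem_univ j)
      have h2 := le_abs_self (g j)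
      have h3 := le_abs_self D
      rw [hk s (hD a (by omega) s hs) (z j), map_zero]
    · exact proj_of_mem_ne (smul_mem hs (hz j)) h
  · intro x y hx hy
    simp [add_smul, hx, hy]

include hP in
/-- Homogeneous prime avoidance in the irrelevant ideal. -/
theorem exists_avoid_hom (S : Finset (Ideal R)) (hS : ∀ p ∈ S, p.IsPrime)
    (hhom : ∀ p ∈ S, p.IsHomogeneous 𝒜) (hnle : ∀ p ∈ S, ¬ P.toIdeal ≤ p) :
    ∃ d : ℤ, 0 < d ∧ ∃ x ∈ 𝒜 d, ∀ p ∈ S, x ∉ p := by
  classical
  let T := S.filter fun p => ∀ q ∈ S, p ≤ q → p = q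
  have hT : ∀ p ∈ S, ∃ q ∈ T, p ≤ q := fun p hp => by
    obtain ⟨q, hq, hmax⟩ := Finset.exists_maximal (s := S.filter (p ≤ ·)) ⟨p, Finset.mem_filter.2 ⟨hp, le_rfl⟩⟩
    rw [Finset.mem_filter] at hq
    exact ⟨q, Finset.mem_filter.2 ⟨hq.1, fun q' hq' hle =>
      le_antisymm hle (hmax (Finset.mem_filter.2 ⟨hq', hq.2.trans hle⟩) hle)⟩, hq.2⟩
  have hz : ∀ p : T, ∃ (d : ℕ) (z : R), 0 < d ∧ z ∈ 𝒜 (d : ℤ) ∧ z ∉ p.1 ∧ ∀ q : T, q ≠ p → z ∈ q.1 := by
    intro p
    obtain ⟨hpS, hpmax⟩ := Finset.mem_filter.1 p.2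
    let J : Ideal R := P.toIdeal ⊓ (T.erase p.1).inf id
    have hJ : ¬ J ≤ p.1 := fun hle => by
      rcases (hS _ hpS).inf_le.1 hle with h | h
      · exact hnle _ hpS h
      · obtain ⟨q, hq, hqp⟩ := (hS _ hpS).inf_le'.1 h
        obtain ⟨hne, hqT⟩ := Finset.mem_erase.1 hq
        exact hne ((Finset.mem_filter.1 hqT).2 p.1 hpS hqp)
    obtain ⟨w, hwJ, hwp⟩ := SetLike.not_le_iff_exists.1 hJ
    obtain ⟨n, hn⟩ : ∃ n, proj 𝒜 n w ∉ p.1 := by
      by_contra! h
      exact hwp (mem_of_proj_mem 𝒜 p.1 h)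
    obtain ⟨m, y, e, hy, hspan⟩ := exists_irrelevant_gens P hP
    obtain ⟨j, hj⟩ : ∃ j, y j ∉ p.1 := by
      by_contra! h
      exact hnle _ hpS (hspan ▸ Ideal.span_le.2 (Set.range_subset_iff.2 h))
    let N : ℕ := n.natAbs + 1
    have hpos' : 0 < (N : ℤ) * e j + n := by
      have h1 := (hy j).1
      have h2 : (N : ℤ) = |n| + 1 := by simp [N]
      have h3 := neg_le_abs n
      nlinarith
    refine ⟨((N : ℤ) * e j + n).toNat, y j ^ N * proj 𝒜 n w, by omega, ?_, ?_, fun q hq => ?_⟩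
    · rw [Int.toNat_of_nonneg hpos'.le]
      have := SetLike.mul_mem_graded (SetLike.pow_mem_graded N (hy j).2) (proj_mem 𝒜 n w)
      rwa [nsmul_eq_mul] at this
    · exact fun h => ((hS _ hpS).mem_or_mem h).elim (fun h => hj ((hS _ hpS).mem_of_pow_mem N h)) hn
    have hqe : q.1 ∈ T.erase p.1 := Finset.mem_erase.2 ⟨fun h => hq (Subtype.ext h), q.2⟩
    exact Ideal.mul_mem_left _ _ (hhom _ (Finset.mem_filter.1 q.2).1 n (Finset.inf_le (f := id) hqe hwJ.2))
  choose d z hd hzd hzp hzq using hz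
  let D : ℕ := Finset.univ.prod d
  have hD : 0 < D := Finset.prod_pos fun p _ => hd p
  refine ⟨D, by omega, ∑ p : T, z p ^ (D / d p), sum_mem fun p _ => ?_, fun p hp hmem => ?_⟩
  · have := SetLike.pow_mem_graded (D / d p) (hzd p)
    rwa [show (D / d p) • ((d p : ℕ) : ℤ) = (D : ℤ) by
      rw [nsmul_eq_mul, ← Nat.cast_mul, Nat.div_mul_cancel (Finset.dvd_prod_of_mem d (Finset.mem_univ p))]] at this
  · obtain ⟨q, hq, hpq⟩ := hT p hp
    have hmem' := hpq hmem
    rw [← Finset.add_sum_erase _ _ (Finset.mem_univ (⟨q, hq⟩ : T))] at hmem'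
    have h0 : 0 < D / d ⟨q, hq⟩ := Nat.div_pos (Nat.le_of_dvd hD (Finset.dvd_prod_of_mem d (Finset.mem_univ _))) (hd _)
    refine hzp ⟨q, hq⟩ ((hS q (Finset.mem_filter.1 hq).1).mem_of_pow_mem (D / d ⟨q, hq⟩) ?_)
    refine (Submodule.add_mem_iff_left q (sum_mem fun r hr => ?_)).1 hmem'
    have hr0 : 0 < D / d r := Nat.div_pos (Nat.le_of_dvd hD (Finset.dvd_prod_of_mem d (Finset.mem_univ _))) (hd _)
    exact Ideal.pow_mem_of_mem q (hzq r ⟨q, hq⟩ (Ne.symm (Finset.ne_of_mem_erase hr))) _ hr0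

include hP ℳ in
/-- A homogeneous regular element of positive degree. -/
theorem exists_regular_hom [Module.Finite R M] (h : GrLC.gam P.toIdeal M = ⊥) :
    ∃ d : ℤ, 0 < d ∧ ∃ x ∈ 𝒜 d, IsSMulRegular M x := by
  classical
  obtain ⟨d, hd, x, hx, hav⟩ := exists_avoid_hom P hP (associatedPrimes.finite R M).toFinset
    (fun p hp => IsAssociatedPrime.isPrime ((associatedPrimes.finite R M).mem_toFinset.1 hp))
    (fun p hp => SegreDim.isHomogeneous_of_mem_associatedPrimes 𝒜 ℳ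
      ((associatedPrimes.finite R M).mem_toFinset.1 hp))
    (fun p hp hle => by
      obtain ⟨hpp, f, hf⟩ := (isAssociatedPrime_iff_exists_injective_linearMap p M).1
        ((associatedPrimes.finite R M).mem_toFinset.1 hp)
      have hm : f (Submodule.Quotient.mk 1) ∈ GrLC.gam P.toIdeal M := ⟨1, fun r hr => by
        rw [← map_smul, ← Submodule.Quotient.mk_smul, smul_eq_mul, mul_one,
          (Submodule.Quotient.mk_eq_zero _).2 (hle (by simpa using hr)), map_zero]⟩
      rw [h, Submodule.mem_bot, map_eq_zero_iff f hf, Submodule.Quotient.mk_eq_zero] at hm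
      exact hpp.ne_top ((Ideal.eq_top_iff_one p).2 hm))
  refine ⟨d, hd, x, hx, ?_⟩
  by_contra hreg
  have : x ∈ ⋃ p ∈ associatedPrimes R M, (p : Set R) := by
    rw [biUnion_associatedPrimes_eq_compl_regular R M]
    exact hreg
  obtain ⟨p, hp, hxp⟩ := Set.mem_iUnion₂.1 this
  exact hav p ((associatedPrimes.finite R M).mem_toFinset.2 hp) hxp

include hP in
/-- Vanishing in large degrees. -/
theorem exists_vanishing (i : ℕ) :
    ∀ {M : Type u} [AddCommGroup M] [Module R M] {τ : Type u} [SetLike τ M] [AddSubgroupClass τ M]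
      {ℳ : ℤ → τ} [Decomposition ℳ] [SetLike.GradedSMul 𝒜 ℳ], Module.Finite R M →
      ∀ E : GrLC.StarInjRes 𝒜 ℳ, ∃ r : ℤ, ∀ n, r < n → ∀ y ∈ E.Hgr P i n, y = 0 := by
  induction i with
  | zero =>
    intro M _ _ τ _ _ ℳ _ _ hM E
    letI := subDecomp ℳ (isHomogeneous_gam (M := M) (ℳ := ℳ) P.isHomogeneous)
    haveI : Module.Finite R (GrLC.gam P.toIdeal M) := Module.Finite.iff_fg.2 (IsNoetherian.noetherian _)
    obtain ⟨k, hk⟩ := exists_pow_kill P.toIdeal (GrLC.gam P.toIdeal M) fun x => by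
      obtain ⟨j, hj⟩ := x.2
      exact ⟨j, fun r hr => Subtype.ext (hj r hr)⟩
    obtain ⟨r, hr⟩ := exists_bdd_of_kill (ℳ := subGr ℳ (GrLC.gam P.toIdeal M)) P hP k hk
    refine ⟨r, fun n hn y hy => ?_⟩
    obtain ⟨z, hz, rfl⟩ := hy
    obtain ⟨m, hm⟩ := exists_ε_eq E (LinearMap.mem_ker.1 z.2.2)
    have hmz : E.ε (proj ℳ n m) = z := by rw [← proj_map E.ε_grHom, hm, proj_of_mem hz]
    have hmem : proj ℳ n m ∈ GrLC.gam P.toIdeal M := by
      obtain ⟨j, hj⟩ := z.2.1
      exact ⟨j, fun s hs => E.ε_injective (by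
        rw [map_smul, hmz, map_zero]; exact hj s hs)⟩
    have h0 : proj ℳ n m = 0 := congrArg Subtype.val (hr n hn ⟨_, hmem⟩ (proj_mem ℳ n m))
    rw [h0, map_zero] at hmz
    rw [show z = 0 from Subtype.ext hmz.symm, map_zero]
  | succ i ih =>
    intro M _ _ τ _ _ ℳ _ _ hM E
    letI := subDecomp ℳ (isHomogeneous_gam (M := M) (ℳ := ℳ) P.isHomogeneous)
    letI := qDecomp ℳ (isHomogeneous_gam (M := M) (ℳ := ℳ) P.isHomogeneous)
    obtain ⟨E₁, E₂, f, g, hf, hg, hfg⟩ := exists_torsion_free_step P P E (i + 1)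
    haveI h1 : Subsingleton (E₁.H P (i + 1)) := by
      obtain ⟨e⟩ := nonempty_H_equiv E₁ P (i + 1)
      haveI := LocCoh.subsingleton_H_of_powerTorsion (I := P.toIdeal) (i + 1) (GrLC.gam P.toIdeal M)
        (fun x => by
          obtain ⟨j, hj⟩ := x.2
          exact ⟨j, fun r hr => Subtype.ext (hj r hr)⟩) (Nat.succ_pos i)
      exact e.toEquiv.subsingleton
    obtain ⟨d, hd, x, hx, hreg⟩ := exists_regular_hom (ℳ := qGr ℳ (GrLC.gam P.toIdeal M)) P hP
      (gam_quotient_eq_bot P.toIdeal)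
    letI := qDecomp (qGr ℳ (GrLC.gam P.toIdeal M))
      (isHomogeneous_range_deg (smul_id_grHomDeg (ℳ := qGr ℳ (GrLC.gam P.toIdeal M)) hx))
    obtain ⟨E₃, δ, hδ, hex⟩ := exists_regular_step P E₂ hx hreg
    obtain ⟨r₂, hr₂⟩ := ih (ℳ := qGr (qGr ℳ (GrLC.gam P.toIdeal M))
      (LinearMap.range (x • LinearMap.id : (M ⧸ GrLC.gam P.toIdeal M) →ₗ[R] (M ⧸ GrLC.gam P.toIdeal M))))
      inferInstance E₃
    letI := Hdecomp E₁ P (i + 1)
    letI := Hdecomp E P (i + 1)
    letI := Hdecomp E₂ P (i + 1)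
    letI := Hdecomp E₃ P i
    refine ⟨r₂, fun n hn => eq_zero_of_exact (ℳ := E₁.Hgr P (i + 1)) (𝒩 := E.Hgr P (i + 1))
      (𝒬 := E₂.Hgr P (i + 1)) hf hg hfg n n n (add_zero n) (add_zero n)
      (fun y _ => Subsingleton.elim _ _) ?_⟩
    intro y hy
    obtain ⟨j, hj⟩ := exists_pow_smul_H P (i + 1) y
    have hxj : x ^ j • y = 0 := hj _ (Ideal.pow_mem_pow (mem_irrelevant_of_pos P hP hd hx) j)
    clear hj
    induction j generalizing n y with
    | zero => rwa [pow_zero, one_smul] at hxj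
    | succ j ihj =>
      have hxy : x • y = 0 := ihj (d + n) (by omega) (x • y) (smul_mem hx hy)
        (by rwa [← mul_smul, ← pow_succ])
      obtain ⟨w, hw, hwy⟩ := exists_preimage (hδ i) (g := n + d) (y := y) (by rwa [add_neg_cancel_right])
        ((hex i y).1 hxy)
      rw [← hwy, hr₂ (n + d) (by omega) w hw, map_zero]

include hP in
/-- A homogeneous regular element of negative degree acting surjectively kills local cohomology. -/
theorem subsingleton_H_of_surjective [Module.Finite R M] (E : GrLC.StarInjRes 𝒜 ℳ) (q : ℕ)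
    {x : R} (hx : x ∈ 𝒜 (-1)) (hs : ∀ y : E.H P q, ∃ z, x • z = y) : Subsingleton (E.H P q) := by
  letI := Hdecomp E P q
  obtain ⟨r, hr⟩ := exists_vanishing P hP q (inferInstance : Module.Finite R M) E
  have key : ∀ (k : ℕ) (n : ℤ), r < n + k → ∀ y ∈ E.Hgr P q n, y = 0 := by
    intro k
    induction k with
    | zero => exact fun n hn => hr n (by simpa using hn)
    | succ k ih =>
      intro n hn y hy
      obtain ⟨z, hz⟩ := hs y
      obtain ⟨w, hw, hwy⟩ := exists_preimage (smul_id_grHomDeg (ℳ := E.Hgr P q) hx) (g := n + 1) (y := y)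
        (by rwa [add_neg_cancel_right]) ⟨z, hz⟩
      rw [← hwy, ih (n + 1) (by push_cast at hn; omega) w hw, map_zero]
  refine subsingleton_of_forall_eq 0 fun y => eq_zero_of_proj (E.Hgr P q) fun n => ?_
  exact key (r + 1 - n).toNat n (by omega) _ (proj_mem (E.Hgr P q) n y)

end Groth.Agent.GrPos9
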